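import Mathlib.FieldTheory.IsSepClosed
import Mathlib.FieldTheory.Separable
import Mathlib.RingTheory.Polynomial.GaussLemma
import Mathlib.RingTheory.LocalRing.ResidueField.Ideal
import Mathlib.RingTheory.Henselian

/-!
# Normal domains with separably closed fraction field
-/

open Polynomial

namespace Groth.Agent.SepClosedNormal.Basic

theorem exists_root_of_derivative_ne_zero {K : Type*} [Field K] [IsSepClosed K] :
    ∀ (n : ℕ) (f : K[X]), f.natDegree ≤ n → derivative f ≠ 0 → ∃ x, f.eval x = 0 := by
  intro n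
  induction n with
  | zero =>
    intro f hn hd
    exact absurd (by rw [eq_C_of_natDegree_le_zero hn, derivative_C]) hd
  | succ n ih =>
    intro f hn hd
    have hu : ¬ IsUnit f := fun hu => hd (derivative_of_natDegree_zero (natDegree_eq_zero_of_isUnit hu))
    obtain ⟨g, hg, h, rfl⟩ := WfDvdMonoid.exists_irreducible_factor hu (fun h0 => hd (by rw [h0, derivative_zero]))
    by_cases hs : g.Separable
    · obtain ⟨x, hx⟩ := IsSepClosed.exists_root g (degree_pos_of_irreducible hg).ne' hs
      exact ⟨x, by rw [eval_mul, hx, zero_mul]⟩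
    · have hg' : derivative g = 0 := by
        by_contra h0; exact hs ((separable_iff_derivative_ne_zero hg).mpr h0)
      have hh : derivative h ≠ 0 := fun h0 => hd (by rw [derivative_mul, hg', h0, zero_mul, mul_zero, add_zero])
      have hne : h ≠ 0 := fun h0 => hh (by rw [h0, derivative_zero])
      have hlt : h.natDegree ≤ n := by
        rw [natDegree_mul hg.ne_zero hne] at hn
        have := hg.natDegree_pos
        omega
      obtain ⟨x, hx⟩ := ih h hlt hh
      exact ⟨x, by rw [eval_mul, hx, mul_zero]⟩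

variable {A : Type*} [CommRing A] [IsDomain A] [IsIntegrallyClosed A]

theorem isRoot_algebraMap {K : Type*} [Field K] [Algebra A K] [IsFractionRing A K] (f : A[X]) (hf : f.Monic)
    {x : K} (hx : (f.map (algebraMap A K)).eval x = 0) : ∃ a, f.eval a = 0 := by
  have hint : IsIntegral A x := ⟨f, hf, by rwa [← eval_map]⟩
  obtain ⟨a, rfl⟩ := IsIntegrallyClosed.isIntegral_iff.mp hint
  refine ⟨a, IsFractionRing.injective A K ?_⟩
  rw [map_zero, ← hx, eval_map_apply]

/-- Every monic polynomial has a root modulo a nonzero ideal. -/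
theorem exists_eval_mem (K : Type*) [Field K] [Algebra A K] [IsFractionRing A K] [IsSepClosed K]
    (p : Ideal A) (hp : p ≠ ⊥) (f : A[X]) (hf : f.Monic) (hd : 1 ≤ f.natDegree) : ∃ a, f.eval a ∈ p := by
  rcases eq_or_lt_of_le hd with h1 | h1
  · refine ⟨-f.coeff 0, ?_⟩
    have : f = X + C (f.coeff 0) := hf.eq_X_add_C h1.symm
    rw [this]
    simp
  obtain ⟨a, hap, ha0⟩ : ∃ a ∈ p, a ≠ 0 := Submodule.exists_mem_ne_zero_of_ne_bot hp
  obtain ⟨c, hc, hder⟩ : ∃ c ∈ p, derivative ((f + C c * X).map (algebraMap A K)) ≠ 0 := by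
    by_cases h : derivative (f.map (algebraMap A K)) = 0
    · refine ⟨a, hap, ?_⟩
      simp only [Polynomial.map_add, derivative_add, h, zero_add, Polynomial.map_mul, map_C, map_X,
        derivative_C_mul, derivative_X, mul_one]
      exact C_ne_zero.mpr ((map_ne_zero_iff _ (IsFractionRing.injective A K)).mpr ha0)
    · exact ⟨0, p.zero_mem, by simpa using h⟩
  have hm : (f + C c * X).Monic := hf.add_of_left (lt_of_le_of_lt (degree_C_mul_X_le c) (by
    rw [degree_eq_natDegree hf.ne_zero]; exact_mod_cast h1))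
  obtain ⟨x, hx⟩ := exists_root_of_derivative_ne_zero _ _ le_rfl hder
  obtain ⟨r, hr⟩ := isRoot_algebraMap _ hm hx
  refine ⟨r, ?_⟩
  rw [eval_add, eval_mul, eval_C, eval_X, add_eq_zero_iff_eq_neg] at hr
  rw [hr]
  exact p.neg_mem (p.mul_mem_right _ hc)

theorem isAlgClosed_residueField (K : Type*) [Field K] [Algebra A K] [IsFractionRing A K] [IsSepClosed K]
    (p : Ideal A) [p.IsPrime] (hp : p ≠ ⊥) : IsAlgClosed p.ResidueField := by
  apply IsAlgClosed.of_exists_root
  intro f hf hfi
  obtain ⟨b, hb⟩ := IsLocalization.exist_integer_multiples (nonZeroDivisors (A ⧸ p)) (Finset.range f.natDegree) f.coeff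
  set β : p.ResidueField := algebraMap (A ⧸ p) p.ResidueField b with hβdef
  have hβ : β ≠ 0 := (map_ne_zero_iff _ p.injective_algebraMap_quotient_residueField).mpr
    (nonZeroDivisors.coe_ne_zero b)
  obtain ⟨b₀, hb₀⟩ := Ideal.Quotient.mk_surjective (b : A ⧸ p)
  have hlift : f.scaleRoots β ∈ lifts (algebraMap A p.ResidueField) := by
    rw [lifts_iff_coeff_lifts]
    intro i
    rw [coeff_scaleRoots]
    rcases lt_trichotomy i f.natDegree with hi | hi | hi
    · obtain ⟨z, hz⟩ := hb i (Finset.mem_range.mpr hi)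
      obtain ⟨z₀, rfl⟩ := Ideal.Quotient.mk_surjective z
      refine ⟨z₀ * b₀ ^ (f.natDegree - i - 1), ?_⟩
      have e : f.natDegree - i = (f.natDegree - i - 1) + 1 := by omega
      conv_rhs => rw [e, pow_succ]
      rw [map_mul, map_pow, IsScalarTower.algebraMap_apply A (A ⧸ p) p.ResidueField,
        IsScalarTower.algebraMap_apply A (A ⧸ p) p.ResidueField b₀, Ideal.Quotient.algebraMap_eq, hz, hb₀,
        Algebra.smul_def]
      ring
    · exact ⟨1, by rw [hi, hf.coeff_natDegree, tsub_self, pow_zero, mul_one, map_one]⟩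
    · exact ⟨0, by rw [coeff_eq_zero_of_natDegree_lt hi, zero_mul, map_zero]⟩
  obtain ⟨g, hg, hgd, hgm⟩ := lifts_and_natDegree_eq_and_monic hlift ((monic_scaleRoots_iff β).mpr hf)
  obtain ⟨r, hr⟩ := exists_eval_mem K p hp g hgm (by
    rw [hgd, natDegree_scaleRoots]; exact hfi.natDegree_pos)
  refine ⟨β⁻¹ * algebraMap A p.ResidueField r, ?_⟩
  have h1 : (f.scaleRoots β).eval (algebraMap A p.ResidueField r) = 0 := by
    rw [← hg, eval_map_apply]
    exact Ideal.algebraMap_residueField_eq_zero.mpr hr
  have h2 := scaleRoots_eval₂_mul (p := f) (RingHom.id _) (β⁻¹ * algebraMap A p.ResidueField r) β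
  rw [RingHom.id_apply, ← mul_assoc, mul_inv_cancel₀ hβ, one_mul] at h2
  rw [eval, h2] at h1
  exact (mul_eq_zero.mp h1).resolve_left (pow_ne_zero _ hβ)

/-- Normal local domains with separably closed fraction field are henselian. -/
theorem exists_isRoot_sub_mem [IsLocalRing A] (K : Type*) [Field K] [Algebra A K] [IsFractionRing A K]
    [IsSepClosed K] : ∀ (n : ℕ) (f : A[X]), f.natDegree ≤ n → f.Monic → ∀ a₀ : A,
      f.eval a₀ ∈ IsLocalRing.maximalIdeal A → IsUnit (f.derivative.eval a₀) →
      ∃ a, f.IsRoot a ∧ a - a₀ ∈ IsLocalRing.maximalIdeal A := by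
  intro n
  induction n with
  | zero =>
    intro f hn hf a₀ h0 _
    rw [hf.natDegree_eq_zero.mp (Nat.le_zero.mp hn), eval_one] at h0
    exact absurd h0 ((Ideal.ne_top_iff_one _).mp (IsLocalRing.maximalIdeal.isMaximal A).ne_top)
  | succ n ih =>
    intro f hn hf a₀ h0 h1
    have hfu : ¬ IsUnit (f.map (algebraMap A K)) := fun hu => by
      have : f = 1 := Polynomial.map_injective _ (IsFractionRing.injective A K) (by
        rw [(hf.map _).eq_one_of_isUnit hu, Polynomial.map_one])
      rw [this, eval_one] at h0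
      exact (IsLocalRing.maximalIdeal.isMaximal A).ne_top ((Ideal.eq_top_iff_one _).mpr h0)
    obtain ⟨g₀, hg₀, hdvd⟩ := WfDvdMonoid.exists_irreducible_factor hfu (hf.map _).ne_zero
    obtain ⟨g, hg⟩ := IsIntegrallyClosed.eq_map_mul_C_of_dvd K hf hdvd
    have hlc : g₀.leadingCoeff ≠ 0 := leadingCoeff_ne_zero.mpr hg₀.ne_zero
    have hgm : g.Monic := by
      have := congrArg leadingCoeff hg
      rw [leadingCoeff_mul, leadingCoeff_C] at this
      exact Polynomial.monic_of_injective (IsFractionRing.injective A K) ((mul_eq_right₀ hlc).mp this)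
    have hgi : Irreducible (g.map (algebraMap A K)) := by
      rw [← hg] at hg₀
      exact (irreducible_mul_isUnit (isUnit_C.mpr hlc.isUnit)).mp hg₀
    have hgd : g ∣ f := (Polynomial.Monic.dvd_iff_fraction_map_dvd_fraction_map (K := K) hf hgm).mp
      (dvd_trans (Dvd.intro _ hg) hdvd)
    obtain ⟨h, rfl⟩ := hgd
    have hhm : h.Monic := hgm.of_mul_monic_left hf
    rw [eval_mul] at h0
    rw [derivative_mul, eval_add, eval_mul, eval_mul] at h1
    rcases (IsLocalRing.maximalIdeal.isMaximal A).isPrime.mem_or_mem h0 with hga | hha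
    · have hu : IsUnit (g.derivative.eval a₀) := by
        by_contra hnu
        exact (IsLocalRing.mem_maximalIdeal _).mp (Ideal.add_mem _
          (Ideal.mul_mem_right _ _ ((IsLocalRing.mem_maximalIdeal _).mpr hnu))
          (Ideal.mul_mem_right _ _ hga)) h1
      have hsep : (g.map (algebraMap A K)).Separable := by
        rw [separable_iff_derivative_ne_zero hgi, derivative_map,
          Polynomial.map_ne_zero_iff (IsFractionRing.injective A K)]
        intro h3; rw [h3, eval_zero] at hu; exact not_isUnit_zero hu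
      obtain ⟨x, hx⟩ := IsSepClosed.exists_root _ (degree_pos_of_irreducible hgi).ne' hsep
      have hdeg : g.natDegree = 1 := by
        rw [← natDegree_map_eq_of_injective (IsFractionRing.injective A K) g]
        exact natDegree_eq_of_degree_eq_some (degree_eq_one_of_irreducible_of_root hgi hx)
      have hge := hgm.eq_X_add_C hdeg
      refine ⟨-g.coeff 0, ?_, ?_⟩
      · rw [IsRoot, eval_mul, hge]; simp
      · have : -g.coeff 0 - a₀ = -(g.eval a₀) := by rw [hge]; simp; ring
        rw [this]
        exact neg_mem hga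
    · have hu : IsUnit (h.derivative.eval a₀) := by
        by_contra hnu
        exact (IsLocalRing.mem_maximalIdeal _).mp (Ideal.add_mem _
          (Ideal.mul_mem_left _ _ hha)
          (Ideal.mul_mem_left _ _ ((IsLocalRing.mem_maximalIdeal _).mpr hnu))) h1
      have hlt : h.natDegree ≤ n := by
        rw [hgm.natDegree_mul hhm] at hn
        have : 0 < (g.map (algebraMap A K)).natDegree := hgi.natDegree_pos
        rw [natDegree_map_eq_of_injective (IsFractionRing.injective A K)] at this
        omega
      obtain ⟨a, ha, ha'⟩ := ih h hlt hhm a₀ hha hu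
      exact ⟨a, by rw [IsRoot, eval_mul, ha.eq_zero, mul_zero], ha'⟩

end Groth.Agent.SepClosedNormal.Basic
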